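import Mathlib

/-!
The letters 6 and 7 stand for a generator and its inverse.
-/

set_option autoImplicit false

namespace H93
namespace ON

/-- the letter of the inverse -/
def iv : ℕ → ℕ
  | 6 => 7
  | 7 => 6
  | g => g

end ON
end H93
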