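import Mathlib
import Cfsg.Agent.H93.ON.Tab.E0
import Cfsg.Agent.H93.ON.Tab.E1
import Cfsg.Agent.H93.ON.Tab.E2
import Cfsg.Agent.H93.ON.Tab.E3
import Cfsg.Agent.H93.ON.Tab.E4
import Cfsg.Agent.H93.ON.Tab.E5
import Cfsg.Agent.H93.ON.Tab.E6
import Cfsg.Agent.H93.ON.Tab.E7
import Cfsg.Agent.H93.ON.Tab.R0
import Cfsg.Agent.H93.ON.Tab.R1
import Cfsg.Agent.H93.ON.Tab.R2
import Cfsg.Agent.H93.ON.Tab.R3
import Cfsg.Agent.H93.ON.Tab.T
import Cfsg.Agent.H93.CI.Fix

/-!
The checked table satisfies every relator.
-/

set_option autoImplicit false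
set_option maxRecDepth 100000
set_option linter.all false
set_option Elab.async false

namespace H93
namespace ON
namespace Tab

open CosetI

noncomputable section

attribute [local irreducible] allRange

theorem edge0 : ∀ c < data.n, data.edgeOK 0 c = true := fun c hc => by
  have hc : c < 122760 := hc
  by_cases h0 : c < 12276
  · exact data.edgesOK_spec edge0_0 (by omega) (by omega)
  by_cases h1 : c < 24552
  · exact data.edgesOK_spec edge0_1 (by omega) (by omega)
  by_cases h2 : c < 36828
  · exact data.edgesOK_spec edge0_2 (by omega) (by omega)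
  by_cases h3 : c < 49104
  · exact data.edgesOK_spec edge0_3 (by omega) (by omega)
  by_cases h4 : c < 61380
  · exact data.edgesOK_spec edge0_4 (by omega) (by omega)
  by_cases h5 : c < 73656
  · exact data.edgesOK_spec edge0_5 (by omega) (by omega)
  by_cases h6 : c < 85932
  · exact data.edgesOK_spec edge0_6 (by omega) (by omega)
  by_cases h7 : c < 98208
  · exact data.edgesOK_spec edge0_7 (by omega) (by omega)
  by_cases h8 : c < 110484
  · exact data.edgesOK_spec edge0_8 (by omega) (by omega)
  by_cases h9 : c < 122760
  · exact data.edgesOK_spec edge0_9 (by omega) (by omega)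
  omega

theorem edge1 : ∀ c < data.n, data.edgeOK 1 c = true := fun c hc => by
  have hc : c < 122760 := hc
  by_cases h0 : c < 12276
  · exact data.edgesOK_spec edge1_0 (by omega) (by omega)
  by_cases h1 : c < 24552
  · exact data.edgesOK_spec edge1_1 (by omega) (by omega)
  by_cases h2 : c < 36828
  · exact data.edgesOK_spec edge1_2 (by omega) (by omega)
  by_cases h3 : c < 49104
  · exact data.edgesOK_spec edge1_3 (by omega) (by omega)
  by_cases h4 : c < 61380
  · exact data.edgesOK_spec edge1_4 (by omega) (by omega)
  by_cases h5 : c < 73656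
  · exact data.edgesOK_spec edge1_5 (by omega) (by omega)
  by_cases h6 : c < 85932
  · exact data.edgesOK_spec edge1_6 (by omega) (by omega)
  by_cases h7 : c < 98208
  · exact data.edgesOK_spec edge1_7 (by omega) (by omega)
  by_cases h8 : c < 110484
  · exact data.edgesOK_spec edge1_8 (by omega) (by omega)
  by_cases h9 : c < 122760
  · exact data.edgesOK_spec edge1_9 (by omega) (by omega)
  omega

theorem edge2 : ∀ c < data.n, data.edgeOK 2 c = true := fun c hc => by
  have hc : c < 122760 := hc
  by_cases h0 : c < 12276
  · exact data.edgesOK_spec edge2_0 (by omega) (by omega)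
  by_cases h1 : c < 24552
  · exact data.edgesOK_spec edge2_1 (by omega) (by omega)
  by_cases h2 : c < 36828
  · exact data.edgesOK_spec edge2_2 (by omega) (by omega)
  by_cases h3 : c < 49104
  · exact data.edgesOK_spec edge2_3 (by omega) (by omega)
  by_cases h4 : c < 61380
  · exact data.edgesOK_spec edge2_4 (by omega) (by omega)
  by_cases h5 : c < 73656
  · exact data.edgesOK_spec edge2_5 (by omega) (by omega)
  by_cases h6 : c < 85932
  · exact data.edgesOK_spec edge2_6 (by omega) (by omega)
  by_cases h7 : c < 98208
  · exact data.edgesOK_spec edge2_7 (by omega) (by omega)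
  by_cases h8 : c < 110484
  · exact data.edgesOK_spec edge2_8 (by omega) (by omega)
  by_cases h9 : c < 122760
  · exact data.edgesOK_spec edge2_9 (by omega) (by omega)
  omega

theorem edge3 : ∀ c < data.n, data.edgeOK 3 c = true := fun c hc => by
  have hc : c < 122760 := hc
  by_cases h0 : c < 12276
  · exact data.edgesOK_spec edge3_0 (by omega) (by omega)
  by_cases h1 : c < 24552
  · exact data.edgesOK_spec edge3_1 (by omega) (by omega)
  by_cases h2 : c < 36828
  · exact data.edgesOK_spec edge3_2 (by omega) (by omega)
  by_cases h3 : c < 49104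
  · exact data.edgesOK_spec edge3_3 (by omega) (by omega)
  by_cases h4 : c < 61380
  · exact data.edgesOK_spec edge3_4 (by omega) (by omega)
  by_cases h5 : c < 73656
  · exact data.edgesOK_spec edge3_5 (by omega) (by omega)
  by_cases h6 : c < 85932
  · exact data.edgesOK_spec edge3_6 (by omega) (by omega)
  by_cases h7 : c < 98208
  · exact data.edgesOK_spec edge3_7 (by omega) (by omega)
  by_cases h8 : c < 110484
  · exact data.edgesOK_spec edge3_8 (by omega) (by omega)
  by_cases h9 : c < 122760
  · exact data.edgesOK_spec edge3_9 (by omega) (by omega)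
  omega

theorem edge4 : ∀ c < data.n, data.edgeOK 4 c = true := fun c hc => by
  have hc : c < 122760 := hc
  by_cases h0 : c < 12276
  · exact data.edgesOK_spec edge4_0 (by omega) (by omega)
  by_cases h1 : c < 24552
  · exact data.edgesOK_spec edge4_1 (by omega) (by omega)
  by_cases h2 : c < 36828
  · exact data.edgesOK_spec edge4_2 (by omega) (by omega)
  by_cases h3 : c < 49104
  · exact data.edgesOK_spec edge4_3 (by omega) (by omega)
  by_cases h4 : c < 61380
  · exact data.edgesOK_spec edge4_4 (by omega) (by omega)
  by_cases h5 : c < 73656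
  · exact data.edgesOK_spec edge4_5 (by omega) (by omega)
  by_cases h6 : c < 85932
  · exact data.edgesOK_spec edge4_6 (by omega) (by omega)
  by_cases h7 : c < 98208
  · exact data.edgesOK_spec edge4_7 (by omega) (by omega)
  by_cases h8 : c < 110484
  · exact data.edgesOK_spec edge4_8 (by omega) (by omega)
  by_cases h9 : c < 122760
  · exact data.edgesOK_spec edge4_9 (by omega) (by omega)
  omega

theorem edge5 : ∀ c < data.n, data.edgeOK 5 c = true := fun c hc => by
  have hc : c < 122760 := hc
  by_cases h0 : c < 12276
  · exact data.edgesOK_spec edge5_0 (by omega) (by omega)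
  by_cases h1 : c < 24552
  · exact data.edgesOK_spec edge5_1 (by omega) (by omega)
  by_cases h2 : c < 36828
  · exact data.edgesOK_spec edge5_2 (by omega) (by omega)
  by_cases h3 : c < 49104
  · exact data.edgesOK_spec edge5_3 (by omega) (by omega)
  by_cases h4 : c < 61380
  · exact data.edgesOK_spec edge5_4 (by omega) (by omega)
  by_cases h5 : c < 73656
  · exact data.edgesOK_spec edge5_5 (by omega) (by omega)
  by_cases h6 : c < 85932
  · exact data.edgesOK_spec edge5_6 (by omega) (by omega)
  by_cases h7 : c < 98208
  · exact data.edgesOK_spec edge5_7 (by omega) (by omega)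
  by_cases h8 : c < 110484
  · exact data.edgesOK_spec edge5_8 (by omega) (by omega)
  by_cases h9 : c < 122760
  · exact data.edgesOK_spec edge5_9 (by omega) (by omega)
  omega

theorem edge6 : ∀ c < data.n, data.edgeOK 6 c = true := fun c hc => by
  have hc : c < 122760 := hc
  by_cases h0 : c < 12276
  · exact data.edgesOK_spec edge6_0 (by omega) (by omega)
  by_cases h1 : c < 24552
  · exact data.edgesOK_spec edge6_1 (by omega) (by omega)
  by_cases h2 : c < 36828
  · exact data.edgesOK_spec edge6_2 (by omega) (by omega)
  by_cases h3 : c < 49104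
  · exact data.edgesOK_spec edge6_3 (by omega) (by omega)
  by_cases h4 : c < 61380
  · exact data.edgesOK_spec edge6_4 (by omega) (by omega)
  by_cases h5 : c < 73656
  · exact data.edgesOK_spec edge6_5 (by omega) (by omega)
  by_cases h6 : c < 85932
  · exact data.edgesOK_spec edge6_6 (by omega) (by omega)
  by_cases h7 : c < 98208
  · exact data.edgesOK_spec edge6_7 (by omega) (by omega)
  by_cases h8 : c < 110484
  · exact data.edgesOK_spec edge6_8 (by omega) (by omega)
  by_cases h9 : c < 122760
  · exact data.edgesOK_spec edge6_9 (by omega) (by omega)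
  omega

theorem edge7 : ∀ c < data.n, data.edgeOK 7 c = true := fun c hc => by
  have hc : c < 122760 := hc
  by_cases h0 : c < 12276
  · exact data.edgesOK_spec edge7_0 (by omega) (by omega)
  by_cases h1 : c < 24552
  · exact data.edgesOK_spec edge7_1 (by omega) (by omega)
  by_cases h2 : c < 36828
  · exact data.edgesOK_spec edge7_2 (by omega) (by omega)
  by_cases h3 : c < 49104
  · exact data.edgesOK_spec edge7_3 (by omega) (by omega)
  by_cases h4 : c < 61380
  · exact data.edgesOK_spec edge7_4 (by omega) (by omega)
  by_cases h5 : c < 73656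
  · exact data.edgesOK_spec edge7_5 (by omega) (by omega)
  by_cases h6 : c < 85932
  · exact data.edgesOK_spec edge7_6 (by omega) (by omega)
  by_cases h7 : c < 98208
  · exact data.edgesOK_spec edge7_7 (by omega) (by omega)
  by_cases h8 : c < 110484
  · exact data.edgesOK_spec edge7_8 (by omega) (by omega)
  by_cases h9 : c < 122760
  · exact data.edgesOK_spec edge7_9 (by omega) (by omega)
  omega

theorem tree : treeOK data 0 data.n = true :=
  (allRange_glue (allRange_glue (allRange_glue (allRange_glue (allRange_glue (allRange_glue (allRange_glue (allRange_glue (allRange_glue tree_0 tree_1) tree_2) tree_3) tree_4) tree_5) tree_6) tree_7) tree_8) tree_9)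

theorem edges : ∀ g < data.ng, ∀ c < data.n, data.edgeOK g c = true := fun g hg => by
  match g, hg with
  | 0, _ => exact edge0
  | 1, _ => exact edge1
  | 2, _ => exact edge2
  | 3, _ => exact edge3
  | 4, _ => exact edge4
  | 5, _ => exact edge5
  | 6, _ => exact edge6
  | 7, _ => exact edge7
  | k + 8, h => exact absurd h (by show ¬ k + 8 < 8; omega)

theorem tables : Tables data where
  pos := by decide
  edges := edges
  tree := tree
  letters := by decide +kernel
  subfix := by decide +kernel

theorem fix0 : ∀ c < data.n, pathEnd data.T [0,0] c = c := fun c hc =>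
  (tables.closed (g := 0) (by decide) hc).2.1

theorem fix1 : ∀ c < data.n, pathEnd data.T [1,0,1,0,1,0] c = c :=
  fix_of_half data tables (x := 1) (y := 0) (m := 3) (by decide) (by decide) rfl rfl fun c hc =>
    fixHalf_spec data (allRange_glue (allRange_glue (allRange_glue (allRange_glue (allRange_glue (allRange_glue (allRange_glue (allRange_glue (allRange_glue rel1_0 rel1_1) rel1_2) rel1_3) rel1_4) rel1_5) rel1_6) rel1_7) rel1_8) rel1_9) (Nat.zero_le c) (by have : c < 122760 := hc; omega)

theorem fix2 : ∀ c < data.n, pathEnd data.T [2,0,2,0] c = c :=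
  fix_of_half data tables (x := 2) (y := 0) (m := 2) (by decide) (by decide) rfl rfl fun c hc =>
    fixHalf_spec data (allRange_glue (allRange_glue (allRange_glue (allRange_glue (allRange_glue (allRange_glue (allRange_glue (allRange_glue (allRange_glue rel2_0 rel2_1) rel2_2) rel2_3) rel2_4) rel2_5) rel2_6) rel2_7) rel2_8) rel2_9) (Nat.zero_le c) (by have : c < 122760 := hc; omega)

theorem fix3 : ∀ c < data.n, pathEnd data.T [3,0,3,0] c = c :=
  fix_of_half data tables (x := 3) (y := 0) (m := 2) (by decide) (by decide) rfl rfl fun c hc =>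
    fixHalf_spec data (allRange_glue (allRange_glue (allRange_glue (allRange_glue (allRange_glue (allRange_glue (allRange_glue (allRange_glue (allRange_glue rel3_0 rel3_1) rel3_2) rel3_3) rel3_4) rel3_5) rel3_6) rel3_7) rel3_8) rel3_9) (Nat.zero_le c) (by have : c < 122760 := hc; omega)

theorem fix4 : ∀ c < data.n, pathEnd data.T [4,0,4,0] c = c :=
  fix_of_half data tables (x := 4) (y := 0) (m := 2) (by decide) (by decide) rfl rfl fun c hc =>
    fixHalf_spec data (allRange_glue (allRange_glue (allRange_glue (allRange_glue (allRange_glue (allRange_glue (allRange_glue (allRange_glue (allRange_glue rel4_0 rel4_1) rel4_2) rel4_3) rel4_4) rel4_5) rel4_6) rel4_7) rel4_8) rel4_9) (Nat.zero_le c) (by have : c < 122760 := hc; omega)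

theorem fix5 : ∀ c < data.n, pathEnd data.T [5,0,5,0] c = c :=
  fix_of_half data tables (x := 5) (y := 0) (m := 2) (by decide) (by decide) rfl rfl fun c hc =>
    fixHalf_spec data (allRange_glue (allRange_glue (allRange_glue (allRange_glue (allRange_glue (allRange_glue (allRange_glue (allRange_glue (allRange_glue rel5_0 rel5_1) rel5_2) rel5_3) rel5_4) rel5_5) rel5_6) rel5_7) rel5_8) rel5_9) (Nat.zero_le c) (by have : c < 122760 := hc; omega)

theorem fix6 : ∀ c < data.n, pathEnd data.T [1,1] c = c := fun c hc =>
  (tables.closed (g := 1) (by decide) hc).2.1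

theorem fix7 : ∀ c < data.n, pathEnd data.T [2,1,2,1,2,1] c = c :=
  fix_of_half data tables (x := 2) (y := 1) (m := 3) (by decide) (by decide) rfl rfl fun c hc =>
    fixHalf_spec data (allRange_glue (allRange_glue (allRange_glue (allRange_glue (allRange_glue (allRange_glue (allRange_glue (allRange_glue (allRange_glue rel7_0 rel7_1) rel7_2) rel7_3) rel7_4) rel7_5) rel7_6) rel7_7) rel7_8) rel7_9) (Nat.zero_le c) (by have : c < 122760 := hc; omega)

theorem fix8 : ∀ c < data.n, pathEnd data.T [3,1,3,1] c = c :=
  fix_of_half data tables (x := 3) (y := 1) (m := 2) (by decide) (by decide) rfl rfl fun c hc =>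
    fixHalf_spec data (allRange_glue (allRange_glue (allRange_glue (allRange_glue (allRange_glue (allRange_glue (allRange_glue (allRange_glue (allRange_glue rel8_0 rel8_1) rel8_2) rel8_3) rel8_4) rel8_5) rel8_6) rel8_7) rel8_8) rel8_9) (Nat.zero_le c) (by have : c < 122760 := hc; omega)

theorem fix9 : ∀ c < data.n, pathEnd data.T [4,1,4,1] c = c :=
  fix_of_half data tables (x := 4) (y := 1) (m := 2) (by decide) (by decide) rfl rfl fun c hc =>
    fixHalf_spec data (allRange_glue (allRange_glue (allRange_glue (allRange_glue (allRange_glue (allRange_glue (allRange_glue (allRange_glue (allRange_glue rel9_0 rel9_1) rel9_2) rel9_3) rel9_4) rel9_5) rel9_6) rel9_7) rel9_8) rel9_9) (Nat.zero_le c) (by have : c < 122760 := hc; omega)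

theorem fix10 : ∀ c < data.n, pathEnd data.T [5,1,5,1] c = c :=
  fix_of_half data tables (x := 5) (y := 1) (m := 2) (by decide) (by decide) rfl rfl fun c hc =>
    fixHalf_spec data (allRange_glue (allRange_glue (allRange_glue (allRange_glue (allRange_glue (allRange_glue (allRange_glue (allRange_glue (allRange_glue rel10_0 rel10_1) rel10_2) rel10_3) rel10_4) rel10_5) rel10_6) rel10_7) rel10_8) rel10_9) (Nat.zero_le c) (by have : c < 122760 := hc; omega)

theorem fix11 : ∀ c < data.n, pathEnd data.T [2,2] c = c := fun c hc =>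
  (tables.closed (g := 2) (by decide) hc).2.1

theorem fix13 : ∀ c < data.n, pathEnd data.T [4,2,4,2] c = c :=
  fix_of_half data tables (x := 4) (y := 2) (m := 2) (by decide) (by decide) rfl rfl fun c hc =>
    fixHalf_spec data (allRange_glue (allRange_glue (allRange_glue (allRange_glue (allRange_glue (allRange_glue (allRange_glue (allRange_glue (allRange_glue rel13_0 rel13_1) rel13_2) rel13_3) rel13_4) rel13_5) rel13_6) rel13_7) rel13_8) rel13_9) (Nat.zero_le c) (by have : c < 122760 := hc; omega)

theorem fix14 : ∀ c < data.n, pathEnd data.T [5,2,5,2] c = c :=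
  fix_of_half data tables (x := 5) (y := 2) (m := 2) (by decide) (by decide) rfl rfl fun c hc =>
    fixHalf_spec data (allRange_glue (allRange_glue (allRange_glue (allRange_glue (allRange_glue (allRange_glue (allRange_glue (allRange_glue (allRange_glue rel14_0 rel14_1) rel14_2) rel14_3) rel14_4) rel14_5) rel14_6) rel14_7) rel14_8) rel14_9) (Nat.zero_le c) (by have : c < 122760 := hc; omega)

theorem fix15 : ∀ c < data.n, pathEnd data.T [3,3] c = c := fun c hc =>
  (tables.closed (g := 3) (by decide) hc).2.1

theorem fix16 : ∀ c < data.n, pathEnd data.T [4,3,4,3,4,3] c = c :=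
  fix_of_half data tables (x := 4) (y := 3) (m := 3) (by decide) (by decide) rfl rfl fun c hc =>
    fixHalf_spec data (allRange_glue (allRange_glue (allRange_glue (allRange_glue (allRange_glue (allRange_glue (allRange_glue (allRange_glue (allRange_glue rel16_0 rel16_1) rel16_2) rel16_3) rel16_4) rel16_5) rel16_6) rel16_7) rel16_8) rel16_9) (Nat.zero_le c) (by have : c < 122760 := hc; omega)

theorem fix17 : ∀ c < data.n, pathEnd data.T [5,3,5,3] c = c :=
  fix_of_half data tables (x := 5) (y := 3) (m := 2) (by decide) (by decide) rfl rfl fun c hc =>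
    fixHalf_spec data (allRange_glue (allRange_glue (allRange_glue (allRange_glue (allRange_glue (allRange_glue (allRange_glue (allRange_glue (allRange_glue rel17_0 rel17_1) rel17_2) rel17_3) rel17_4) rel17_5) rel17_6) rel17_7) rel17_8) rel17_9) (Nat.zero_le c) (by have : c < 122760 := hc; omega)

theorem fix18 : ∀ c < data.n, pathEnd data.T [4,4] c = c := fun c hc =>
  (tables.closed (g := 4) (by decide) hc).2.1

theorem fix19 : ∀ c < data.n, pathEnd data.T [5,4,5,4,5,4] c = c :=
  fix_of_half data tables (x := 5) (y := 4) (m := 3) (by decide) (by decide) rfl rfl fun c hc =>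
    fixHalf_spec data (allRange_glue (allRange_glue (allRange_glue (allRange_glue (allRange_glue (allRange_glue (allRange_glue (allRange_glue (allRange_glue rel19_0 rel19_1) rel19_2) rel19_3) rel19_4) rel19_5) rel19_6) rel19_7) rel19_8) rel19_9) (Nat.zero_le c) (by have : c < 122760 := hc; omega)

theorem fix20 : ∀ c < data.n, pathEnd data.T [5,5] c = c := fun c hc =>
  (tables.closed (g := 5) (by decide) hc).2.1

theorem fix21 : ∀ c < data.n, pathEnd data.T [7,7,5,0] c = c := fun c hc =>
  fixAll_spec data (allRange_glue (allRange_glue (allRange_glue (allRange_glue (allRange_glue (allRange_glue (allRange_glue (allRange_glue (allRange_glue rel21_0 rel21_1) rel21_2) rel21_3) rel21_4) rel21_5) rel21_6) rel21_7) rel21_8) rel21_9) (Nat.zero_le c) (by have : c < 122760 := hc; omega)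

theorem fix22 : ∀ c < data.n, pathEnd data.T [2,3,2,3,2,3,2,3,5,0] c = c := fun c hc =>
  fixAll_spec data (allRange_glue (allRange_glue (allRange_glue (allRange_glue (allRange_glue (allRange_glue (allRange_glue (allRange_glue (allRange_glue rel22_0 rel22_1) rel22_2) rel22_3) rel22_4) rel22_5) rel22_6) rel22_7) rel22_8) rel22_9) (Nat.zero_le c) (by have : c < 122760 := hc; omega)

theorem fix23 : ∀ c < data.n, pathEnd data.T [6,3,6,3,2,3,7,3,7,2] c = c := fun c hc =>
  fixAll_spec data (allRange_glue (allRange_glue (allRange_glue (allRange_glue (allRange_glue (allRange_glue (allRange_glue (allRange_glue (allRange_glue rel23_0 rel23_1) rel23_2) rel23_3) rel23_4) rel23_5) rel23_6) rel23_7) rel23_8) rel23_9) (Nat.zero_le c) (by have : c < 122760 := hc; omega)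

theorem fix24 : ∀ c < data.n, pathEnd data.T [6,2,6,2,3,2,7,2,7,3] c = c := fun c hc =>
  fixAll_spec data (allRange_glue (allRange_glue (allRange_glue (allRange_glue (allRange_glue (allRange_glue (allRange_glue (allRange_glue (allRange_glue rel24_0 rel24_1) rel24_2) rel24_3) rel24_4) rel24_5) rel24_6) rel24_7) rel24_8) rel24_9) (Nat.zero_le c) (by have : c < 122760 := hc; omega)

theorem fix25 : ∀ c < data.n, pathEnd data.T [6,3,2,1,6,3,2,1,6,3,2,1,6,3,2,1,6,3,2,1] c = c := fun c hc =>
  fixAll_spec data (allRange_glue (allRange_glue (allRange_glue (allRange_glue (allRange_glue (allRange_glue (allRange_glue (allRange_glue (allRange_glue rel25_0 rel25_1) rel25_2) rel25_3) rel25_4) rel25_5) rel25_6) rel25_7) rel25_8) rel25_9) (Nat.zero_le c) (by have : c < 122760 := hc; omega)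

theorem fix26 : ∀ c < data.n, pathEnd data.T [2,6,2,1,6,1,2,6,2,1,6] c = c := fun c hc =>
  fixAll_spec data (allRange_glue (allRange_glue (allRange_glue (allRange_glue (allRange_glue (allRange_glue (allRange_glue (allRange_glue (allRange_glue rel26_0 rel26_1) rel26_2) rel26_3) rel26_4) rel26_5) rel26_6) rel26_7) rel26_8) rel26_9) (Nat.zero_le c) (by have : c < 122760 := hc; omega)

theorem fix27 : ∀ c < data.n, pathEnd data.T [3,6,3,4,6,4,3,6,3,4,6] c = c := fun c hc =>
  fixAll_spec data (allRange_glue (allRange_glue (allRange_glue (allRange_glue (allRange_glue (allRange_glue (allRange_glue (allRange_glue (allRange_glue rel27_0 rel27_1) rel27_2) rel27_3) rel27_4) rel27_5) rel27_6) rel27_7) rel27_8) rel27_9) (Nat.zero_le c) (by have : c < 122760 := hc; omega)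

theorem fix12 : ∀ c < data.n, pathEnd data.T [3,2,3,2,3,2,3,2,3,2,3,2,3,2,3,2] c = c := by
  have hl : ∀ w ∈ data.words, ∀ g ∈ w, g < data.ng := tables.mem_letters
  have hA := ev_perm_eq_one tables (w := [2,3,2,3,2,3,2,3,5,0]) (hl _ (by decide +kernel)) fix22
  have hB := ev_perm_eq_one tables (w := [5,0,5,0]) (hl _ (by decide +kernel)) fix5
  have hi : ∀ g < data.ng, perm data (data.iv g) * perm data g = 1 := fun g hg => perm_inv tables hg
  set U := ev (perm data) [2,3,2,3,2,3,2,3] with hU
  set V := ev (perm data) [5,0] with hV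
  have hA' : V * U = 1 := by rw [hU, hV, ← ev_append]; exact hA
  have hB' : V * V = 1 := by
    have e0 : perm data 0 * perm data 0 = 1 := hi 0 (by decide)
    have e5 : perm data 5 * perm data 5 = 1 := hi 5 (by decide)
    simp only [ev, one_mul] at hB hV
    rw [hV]
    simpa [mul_assoc] using hB
  have hUV : U = V := (eq_inv_of_mul_eq_one_right hA').trans (inv_eq_of_mul_eq_one_right hB')
  have hW : ev (perm data) ([2,3,2,3,2,3,2,3] ++ [2,3,2,3,2,3,2,3]) = 1 := by
    rw [ev_append, ← hU, hUV, hB']
  have hlt : ∀ g ∈ ([2,3,2,3,2,3,2,3] ++ [2,3,2,3,2,3,2,3] : List ℕ), g < data.ng := by decide +kernel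
  have hR := ev_reverse (perm data) hi _ hlt
  rw [hW, inv_one] at hR
  intro c hc
  have hl' : ∀ g ∈ ([3,2,3,2,3,2,3,2,3,2,3,2,3,2,3,2] : List ℕ), g < data.ng := by decide +kernel
  have := ev_perm_apply tables [3,2,3,2,3,2,3,2,3,2,3,2,3,2,3,2] hl' ⟨c, hc⟩
  rw [show ([3,2,3,2,3,2,3,2,3,2,3,2,3,2,3,2] : List ℕ) = (([2,3,2,3,2,3,2,3] ++ [2,3,2,3,2,3,2,3]).map data.iv).reverse from rfl, hR] at this
  exact this.symm

theorem relFix : ∀ w ∈ data.words.take data.nrel, ∀ c < data.n, pathEnd data.T w c = c := by
  simp only [data, words, List.take_succ_cons, List.take_zero, List.forall_mem_cons, List.not_mem_nil, IsEmpty.forall_iff, implies_true, and_true]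
  exact ⟨fix0, fix1, fix2, fix3, fix4, fix5, fix6, fix7, fix8, fix9, fix10, fix11, fix12, fix13, fix14, fix15, fix16, fix17, fix18, fix19, fix20, fix21, fix22, fix23, fix24, fix25, fix26, fix27⟩

end

end Tab
end ON
end H93
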