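import Mathlib
import Cfsg.Agent.H93.CI.Deriv
import Cfsg.Agent.H93.ON.Loop1.P0

/-!
A derivation that a word fixes the first coset (generated data).
-/

set_option autoImplicit false
set_option maxRecDepth 100000
set_option linter.all false
set_option Elab.async false

namespace H93
namespace ON
namespace Loop1

open CosetI

noncomputable section

variable {G X : Type*} [Group G] [MulAction G X] {gen : ℕ → G} {x₀ : X}

theorem holds0 : ∀ i < 0, data.Holds gen x₀ i := fun i hi => absurd hi (Nat.not_lt_zero i)

theorem holds1 (h : data.Hyp gen x₀) : ∀ i < 250, data.Holds gen x₀ i :=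
  Deriv.steps_sound h st0 ok0 holds0

theorem holds2 (h : data.Hyp gen x₀) : ∀ i < 329, data.Holds gen x₀ i :=
  Deriv.steps_sound h st1 ok1 (holds1 h)

def word : List ℕ := [6,1,6,6,0,1,7]

theorem final : data.finalOK 329 [13,43,631,657,129,42,12] word = true := by decide +kernel

theorem fix (h : data.Hyp gen x₀) : ev gen word • x₀ = x₀ :=
  Deriv.fix_of_word h (holds2 h) final

end

end Loop1
end ON
end H93
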