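import Mathlib
import Cfsg.Agent.H93.CI.Deriv
import Cfsg.Agent.H93.ON.Loop2.P0
import Cfsg.Agent.H93.ON.Loop2.P1
import Cfsg.Agent.H93.ON.Loop2.P2
import Cfsg.Agent.H93.ON.Loop2.P3

/-!
A derivation that a word fixes the first coset (generated data).
-/

set_option autoImplicit false
set_option maxRecDepth 100000
set_option linter.all false
set_option Elab.async false

namespace H93
namespace ON
namespace Loop2

open CosetI

noncomputable section

variable {G X : Type*} [Group G] [MulAction G X] {gen : ℕ → G} {x₀ : X}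

theorem holds0 : ∀ i < 0, data.Holds gen x₀ i := fun i hi => absurd hi (Nat.not_lt_zero i)

theorem holds1 (h : data.Hyp gen x₀) : ∀ i < 250, data.Holds gen x₀ i :=
  Deriv.steps_sound h st0 ok0 holds0

theorem holds2 (h : data.Hyp gen x₀) : ∀ i < 500, data.Holds gen x₀ i :=
  Deriv.steps_sound h st1 ok1 (holds1 h)

theorem holds3 (h : data.Hyp gen x₀) : ∀ i < 750, data.Holds gen x₀ i :=
  Deriv.steps_sound h st2 ok2 (holds2 h)

theorem holds4 (h : data.Hyp gen x₀) : ∀ i < 1000, data.Holds gen x₀ i :=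
  Deriv.steps_sound h st3 ok3 (holds3 h)

theorem holds5 (h : data.Hyp gen x₀) : ∀ i < 1250, data.Holds gen x₀ i :=
  Deriv.steps_sound h st4 ok4 (holds4 h)

theorem holds6 (h : data.Hyp gen x₀) : ∀ i < 1500, data.Holds gen x₀ i :=
  Deriv.steps_sound h st5 ok5 (holds5 h)

theorem holds7 (h : data.Hyp gen x₀) : ∀ i < 1750, data.Holds gen x₀ i :=
  Deriv.steps_sound h st6 ok6 (holds6 h)

theorem holds8 (h : data.Hyp gen x₀) : ∀ i < 2000, data.Holds gen x₀ i :=
  Deriv.steps_sound h st7 ok7 (holds7 h)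

theorem holds9 (h : data.Hyp gen x₀) : ∀ i < 2250, data.Holds gen x₀ i :=
  Deriv.steps_sound h st8 ok8 (holds8 h)

theorem holds10 (h : data.Hyp gen x₀) : ∀ i < 2500, data.Holds gen x₀ i :=
  Deriv.steps_sound h st9 ok9 (holds9 h)

theorem holds11 (h : data.Hyp gen x₀) : ∀ i < 2750, data.Holds gen x₀ i :=
  Deriv.steps_sound h st10 ok10 (holds10 h)

theorem holds12 (h : data.Hyp gen x₀) : ∀ i < 3000, data.Holds gen x₀ i :=
  Deriv.steps_sound h st11 ok11 (holds11 h)

theorem holds13 (h : data.Hyp gen x₀) : ∀ i < 3250, data.Holds gen x₀ i :=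
  Deriv.steps_sound h st12 ok12 (holds12 h)

theorem holds14 (h : data.Hyp gen x₀) : ∀ i < 3500, data.Holds gen x₀ i :=
  Deriv.steps_sound h st13 ok13 (holds13 h)

theorem holds15 (h : data.Hyp gen x₀) : ∀ i < 3750, data.Holds gen x₀ i :=
  Deriv.steps_sound h st14 ok14 (holds14 h)

theorem holds16 (h : data.Hyp gen x₀) : ∀ i < 4000, data.Holds gen x₀ i :=
  Deriv.steps_sound h st15 ok15 (holds15 h)

theorem holds17 (h : data.Hyp gen x₀) : ∀ i < 4250, data.Holds gen x₀ i :=
  Deriv.steps_sound h st16 ok16 (holds16 h)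

theorem holds18 (h : data.Hyp gen x₀) : ∀ i < 4500, data.Holds gen x₀ i :=
  Deriv.steps_sound h st17 ok17 (holds17 h)

theorem holds19 (h : data.Hyp gen x₀) : ∀ i < 4750, data.Holds gen x₀ i :=
  Deriv.steps_sound h st18 ok18 (holds18 h)

theorem holds20 (h : data.Hyp gen x₀) : ∀ i < 5000, data.Holds gen x₀ i :=
  Deriv.steps_sound h st19 ok19 (holds19 h)

theorem holds21 (h : data.Hyp gen x₀) : ∀ i < 5250, data.Holds gen x₀ i :=
  Deriv.steps_sound h st20 ok20 (holds20 h)

theorem holds22 (h : data.Hyp gen x₀) : ∀ i < 5500, data.Holds gen x₀ i :=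
  Deriv.steps_sound h st21 ok21 (holds21 h)

theorem holds23 (h : data.Hyp gen x₀) : ∀ i < 5750, data.Holds gen x₀ i :=
  Deriv.steps_sound h st22 ok22 (holds22 h)

theorem holds24 (h : data.Hyp gen x₀) : ∀ i < 6000, data.Holds gen x₀ i :=
  Deriv.steps_sound h st23 ok23 (holds23 h)

theorem holds25 (h : data.Hyp gen x₀) : ∀ i < 6250, data.Holds gen x₀ i :=
  Deriv.steps_sound h st24 ok24 (holds24 h)

theorem holds26 (h : data.Hyp gen x₀) : ∀ i < 6500, data.Holds gen x₀ i :=
  Deriv.steps_sound h st25 ok25 (holds25 h)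

theorem holds27 (h : data.Hyp gen x₀) : ∀ i < 6750, data.Holds gen x₀ i :=
  Deriv.steps_sound h st26 ok26 (holds26 h)

theorem holds28 (h : data.Hyp gen x₀) : ∀ i < 7000, data.Holds gen x₀ i :=
  Deriv.steps_sound h st27 ok27 (holds27 h)

theorem holds29 (h : data.Hyp gen x₀) : ∀ i < 7250, data.Holds gen x₀ i :=
  Deriv.steps_sound h st28 ok28 (holds28 h)

theorem holds30 (h : data.Hyp gen x₀) : ∀ i < 7500, data.Holds gen x₀ i :=
  Deriv.steps_sound h st29 ok29 (holds29 h)

theorem holds31 (h : data.Hyp gen x₀) : ∀ i < 7750, data.Holds gen x₀ i :=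
  Deriv.steps_sound h st30 ok30 (holds30 h)

theorem holds32 (h : data.Hyp gen x₀) : ∀ i < 8000, data.Holds gen x₀ i :=
  Deriv.steps_sound h st31 ok31 (holds31 h)

theorem holds33 (h : data.Hyp gen x₀) : ∀ i < 8250, data.Holds gen x₀ i :=
  Deriv.steps_sound h st32 ok32 (holds32 h)

theorem holds34 (h : data.Hyp gen x₀) : ∀ i < 8500, data.Holds gen x₀ i :=
  Deriv.steps_sound h st33 ok33 (holds33 h)

theorem holds35 (h : data.Hyp gen x₀) : ∀ i < 8750, data.Holds gen x₀ i :=
  Deriv.steps_sound h st34 ok34 (holds34 h)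

theorem holds36 (h : data.Hyp gen x₀) : ∀ i < 9000, data.Holds gen x₀ i :=
  Deriv.steps_sound h st35 ok35 (holds35 h)

theorem holds37 (h : data.Hyp gen x₀) : ∀ i < 9250, data.Holds gen x₀ i :=
  Deriv.steps_sound h st36 ok36 (holds36 h)

theorem holds38 (h : data.Hyp gen x₀) : ∀ i < 9500, data.Holds gen x₀ i :=
  Deriv.steps_sound h st37 ok37 (holds37 h)

theorem holds39 (h : data.Hyp gen x₀) : ∀ i < 9750, data.Holds gen x₀ i :=
  Deriv.steps_sound h st38 ok38 (holds38 h)

theorem holds40 (h : data.Hyp gen x₀) : ∀ i < 10000, data.Holds gen x₀ i :=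
  Deriv.steps_sound h st39 ok39 (holds39 h)

theorem holds41 (h : data.Hyp gen x₀) : ∀ i < 10250, data.Holds gen x₀ i :=
  Deriv.steps_sound h st40 ok40 (holds40 h)

theorem holds42 (h : data.Hyp gen x₀) : ∀ i < 10500, data.Holds gen x₀ i :=
  Deriv.steps_sound h st41 ok41 (holds41 h)

theorem holds43 (h : data.Hyp gen x₀) : ∀ i < 10750, data.Holds gen x₀ i :=
  Deriv.steps_sound h st42 ok42 (holds42 h)

theorem holds44 (h : data.Hyp gen x₀) : ∀ i < 11000, data.Holds gen x₀ i :=
  Deriv.steps_sound h st43 ok43 (holds43 h)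

theorem holds45 (h : data.Hyp gen x₀) : ∀ i < 11250, data.Holds gen x₀ i :=
  Deriv.steps_sound h st44 ok44 (holds44 h)

theorem holds46 (h : data.Hyp gen x₀) : ∀ i < 11500, data.Holds gen x₀ i :=
  Deriv.steps_sound h st45 ok45 (holds45 h)

theorem holds47 (h : data.Hyp gen x₀) : ∀ i < 11750, data.Holds gen x₀ i :=
  Deriv.steps_sound h st46 ok46 (holds46 h)

theorem holds48 (h : data.Hyp gen x₀) : ∀ i < 12000, data.Holds gen x₀ i :=
  Deriv.steps_sound h st47 ok47 (holds47 h)

theorem holds49 (h : data.Hyp gen x₀) : ∀ i < 12250, data.Holds gen x₀ i :=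
  Deriv.steps_sound h st48 ok48 (holds48 h)

theorem holds50 (h : data.Hyp gen x₀) : ∀ i < 12500, data.Holds gen x₀ i :=
  Deriv.steps_sound h st49 ok49 (holds49 h)

theorem holds51 (h : data.Hyp gen x₀) : ∀ i < 12750, data.Holds gen x₀ i :=
  Deriv.steps_sound h st50 ok50 (holds50 h)

theorem holds52 (h : data.Hyp gen x₀) : ∀ i < 13000, data.Holds gen x₀ i :=
  Deriv.steps_sound h st51 ok51 (holds51 h)

theorem holds53 (h : data.Hyp gen x₀) : ∀ i < 13250, data.Holds gen x₀ i :=
  Deriv.steps_sound h st52 ok52 (holds52 h)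

theorem holds54 (h : data.Hyp gen x₀) : ∀ i < 13500, data.Holds gen x₀ i :=
  Deriv.steps_sound h st53 ok53 (holds53 h)

theorem holds55 (h : data.Hyp gen x₀) : ∀ i < 13750, data.Holds gen x₀ i :=
  Deriv.steps_sound h st54 ok54 (holds54 h)

theorem holds56 (h : data.Hyp gen x₀) : ∀ i < 14000, data.Holds gen x₀ i :=
  Deriv.steps_sound h st55 ok55 (holds55 h)

theorem holds57 (h : data.Hyp gen x₀) : ∀ i < 14250, data.Holds gen x₀ i :=
  Deriv.steps_sound h st56 ok56 (holds56 h)

theorem holds58 (h : data.Hyp gen x₀) : ∀ i < 14500, data.Holds gen x₀ i :=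
  Deriv.steps_sound h st57 ok57 (holds57 h)

theorem holds59 (h : data.Hyp gen x₀) : ∀ i < 14750, data.Holds gen x₀ i :=
  Deriv.steps_sound h st58 ok58 (holds58 h)

theorem holds60 (h : data.Hyp gen x₀) : ∀ i < 15000, data.Holds gen x₀ i :=
  Deriv.steps_sound h st59 ok59 (holds59 h)

theorem holds61 (h : data.Hyp gen x₀) : ∀ i < 15250, data.Holds gen x₀ i :=
  Deriv.steps_sound h st60 ok60 (holds60 h)

theorem holds62 (h : data.Hyp gen x₀) : ∀ i < 15500, data.Holds gen x₀ i :=
  Deriv.steps_sound h st61 ok61 (holds61 h)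

theorem holds63 (h : data.Hyp gen x₀) : ∀ i < 15750, data.Holds gen x₀ i :=
  Deriv.steps_sound h st62 ok62 (holds62 h)

theorem holds64 (h : data.Hyp gen x₀) : ∀ i < 16000, data.Holds gen x₀ i :=
  Deriv.steps_sound h st63 ok63 (holds63 h)

theorem holds65 (h : data.Hyp gen x₀) : ∀ i < 16250, data.Holds gen x₀ i :=
  Deriv.steps_sound h st64 ok64 (holds64 h)

theorem holds66 (h : data.Hyp gen x₀) : ∀ i < 16500, data.Holds gen x₀ i :=
  Deriv.steps_sound h st65 ok65 (holds65 h)

theorem holds67 (h : data.Hyp gen x₀) : ∀ i < 16750, data.Holds gen x₀ i :=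
  Deriv.steps_sound h st66 ok66 (holds66 h)

theorem holds68 (h : data.Hyp gen x₀) : ∀ i < 17000, data.Holds gen x₀ i :=
  Deriv.steps_sound h st67 ok67 (holds67 h)

theorem holds69 (h : data.Hyp gen x₀) : ∀ i < 17250, data.Holds gen x₀ i :=
  Deriv.steps_sound h st68 ok68 (holds68 h)

theorem holds70 (h : data.Hyp gen x₀) : ∀ i < 17500, data.Holds gen x₀ i :=
  Deriv.steps_sound h st69 ok69 (holds69 h)

theorem holds71 (h : data.Hyp gen x₀) : ∀ i < 17750, data.Holds gen x₀ i :=
  Deriv.steps_sound h st70 ok70 (holds70 h)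

theorem holds72 (h : data.Hyp gen x₀) : ∀ i < 18000, data.Holds gen x₀ i :=
  Deriv.steps_sound h st71 ok71 (holds71 h)

theorem holds73 (h : data.Hyp gen x₀) : ∀ i < 18250, data.Holds gen x₀ i :=
  Deriv.steps_sound h st72 ok72 (holds72 h)

theorem holds74 (h : data.Hyp gen x₀) : ∀ i < 18500, data.Holds gen x₀ i :=
  Deriv.steps_sound h st73 ok73 (holds73 h)

theorem holds75 (h : data.Hyp gen x₀) : ∀ i < 18750, data.Holds gen x₀ i :=
  Deriv.steps_sound h st74 ok74 (holds74 h)

theorem holds76 (h : data.Hyp gen x₀) : ∀ i < 19000, data.Holds gen x₀ i :=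
  Deriv.steps_sound h st75 ok75 (holds75 h)

theorem holds77 (h : data.Hyp gen x₀) : ∀ i < 19250, data.Holds gen x₀ i :=
  Deriv.steps_sound h st76 ok76 (holds76 h)

theorem holds78 (h : data.Hyp gen x₀) : ∀ i < 19500, data.Holds gen x₀ i :=
  Deriv.steps_sound h st77 ok77 (holds77 h)

theorem holds79 (h : data.Hyp gen x₀) : ∀ i < 19750, data.Holds gen x₀ i :=
  Deriv.steps_sound h st78 ok78 (holds78 h)

theorem holds80 (h : data.Hyp gen x₀) : ∀ i < 20000, data.Holds gen x₀ i :=
  Deriv.steps_sound h st79 ok79 (holds79 h)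

theorem holds81 (h : data.Hyp gen x₀) : ∀ i < 20250, data.Holds gen x₀ i :=
  Deriv.steps_sound h st80 ok80 (holds80 h)

theorem holds82 (h : data.Hyp gen x₀) : ∀ i < 20500, data.Holds gen x₀ i :=
  Deriv.steps_sound h st81 ok81 (holds81 h)

theorem holds83 (h : data.Hyp gen x₀) : ∀ i < 20750, data.Holds gen x₀ i :=
  Deriv.steps_sound h st82 ok82 (holds82 h)

theorem holds84 (h : data.Hyp gen x₀) : ∀ i < 21000, data.Holds gen x₀ i :=
  Deriv.steps_sound h st83 ok83 (holds83 h)

theorem holds85 (h : data.Hyp gen x₀) : ∀ i < 21250, data.Holds gen x₀ i :=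
  Deriv.steps_sound h st84 ok84 (holds84 h)

theorem holds86 (h : data.Hyp gen x₀) : ∀ i < 21500, data.Holds gen x₀ i :=
  Deriv.steps_sound h st85 ok85 (holds85 h)

theorem holds87 (h : data.Hyp gen x₀) : ∀ i < 21750, data.Holds gen x₀ i :=
  Deriv.steps_sound h st86 ok86 (holds86 h)

theorem holds88 (h : data.Hyp gen x₀) : ∀ i < 22000, data.Holds gen x₀ i :=
  Deriv.steps_sound h st87 ok87 (holds87 h)

theorem holds89 (h : data.Hyp gen x₀) : ∀ i < 22250, data.Holds gen x₀ i :=
  Deriv.steps_sound h st88 ok88 (holds88 h)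

theorem holds90 (h : data.Hyp gen x₀) : ∀ i < 22500, data.Holds gen x₀ i :=
  Deriv.steps_sound h st89 ok89 (holds89 h)

theorem holds91 (h : data.Hyp gen x₀) : ∀ i < 22750, data.Holds gen x₀ i :=
  Deriv.steps_sound h st90 ok90 (holds90 h)

theorem holds92 (h : data.Hyp gen x₀) : ∀ i < 23000, data.Holds gen x₀ i :=
  Deriv.steps_sound h st91 ok91 (holds91 h)

theorem holds93 (h : data.Hyp gen x₀) : ∀ i < 23250, data.Holds gen x₀ i :=
  Deriv.steps_sound h st92 ok92 (holds92 h)

theorem holds94 (h : data.Hyp gen x₀) : ∀ i < 23500, data.Holds gen x₀ i :=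
  Deriv.steps_sound h st93 ok93 (holds93 h)

theorem holds95 (h : data.Hyp gen x₀) : ∀ i < 23750, data.Holds gen x₀ i :=
  Deriv.steps_sound h st94 ok94 (holds94 h)

theorem holds96 (h : data.Hyp gen x₀) : ∀ i < 24000, data.Holds gen x₀ i :=
  Deriv.steps_sound h st95 ok95 (holds95 h)

theorem holds97 (h : data.Hyp gen x₀) : ∀ i < 24250, data.Holds gen x₀ i :=
  Deriv.steps_sound h st96 ok96 (holds96 h)

theorem holds98 (h : data.Hyp gen x₀) : ∀ i < 24500, data.Holds gen x₀ i :=
  Deriv.steps_sound h st97 ok97 (holds97 h)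

theorem holds99 (h : data.Hyp gen x₀) : ∀ i < 24750, data.Holds gen x₀ i :=
  Deriv.steps_sound h st98 ok98 (holds98 h)

theorem holds100 (h : data.Hyp gen x₀) : ∀ i < 25000, data.Holds gen x₀ i :=
  Deriv.steps_sound h st99 ok99 (holds99 h)

theorem holds101 (h : data.Hyp gen x₀) : ∀ i < 25250, data.Holds gen x₀ i :=
  Deriv.steps_sound h st100 ok100 (holds100 h)

theorem holds102 (h : data.Hyp gen x₀) : ∀ i < 25467, data.Holds gen x₀ i :=
  Deriv.steps_sound h st101 ok101 (holds101 h)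

def word : List ℕ := [6,4,3,7,2,4,3,7,4,6,2,3,4,7]

theorem final : data.finalOK 25467 [12,45,43,41,1548,2189,50932,9443,8604,5279,2148,42,44,13] word = true := by decide +kernel

theorem fix (h : data.Hyp gen x₀) : ev gen word • x₀ = x₀ :=
  Deriv.fix_of_word h (holds102 h) final

end

end Loop2
end ON
end H93
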