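import Mathlib
import Cfsg.Prelude.Def_Spor_ON
import Cfsg.Agent.H93.CI.Order
import Cfsg.Agent.H93.CI.Pres
import Cfsg.Agent.H93.ON.Fix
import Cfsg.Agent.H93.ON.Loop1
import Cfsg.Agent.H93.ON.Loop2

/-!
The table belongs to the presented O'Nan group and the subgroup generated by the six nodes.
-/

set_option autoImplicit false

namespace H93
namespace ON

open CosetI

/-- the letters a, …, f, g, g⁻¹ -/
noncomputable def gen : ℕ → Cfsg.Spor.ON
  | 0 => PresentedGroup.of .a
  | 1 => PresentedGroup.of .b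
  | 2 => PresentedGroup.of .c
  | 3 => PresentedGroup.of .d
  | 4 => PresentedGroup.of .e
  | 5 => PresentedGroup.of .f
  | 6 => PresentedGroup.of .g
  | 7 => (PresentedGroup.of .g)⁻¹
  | _ => 1

def ix : Cfsg.Spor.ON.Gen → ℕ
  | .g => 6
  | .a => 0
  | .b => 1
  | .c => 2
  | .d => 3
  | .e => 4
  | .f => 5

theorem gen_ix : ∀ a, gen (ix a) = PresentedGroup.of a := fun a => by cases a <;> rfl

theorem node_sq (a : Cfsg.Spor.ON.Gen) (h : a ∈ Cfsg.Spor.coxNodes Cfsg.Spor.ON.edges) :
    (PresentedGroup.of a : Cfsg.Spor.ON) * PresentedGroup.of a = 1 := by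
  have h1 : (FreeGroup.of a * FreeGroup.of a) ^ Cfsg.Spor.coxLabel Cfsg.Spor.ON.edges a a ∈
      Cfsg.Spor.coxRelators Cfsg.Spor.ON.edges ∪ {r | r ∈ Cfsg.Spor.ON.extra} :=
    Or.inl ⟨a, h, a, h, rfl⟩
  have h2 := PresentedGroup.one_of_mem h1
  rwa [show Cfsg.Spor.coxLabel Cfsg.Spor.ON.edges a a = 1 from if_pos rfl, pow_one] at h2

theorem gen_sq {k : ℕ} (hk : k < 6) : gen k * gen k = 1 := by
  match k, hk with
  | 0, _ => exact node_sq .a (by decide)
  | 1, _ => exact node_sq .b (by decide)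
  | 2, _ => exact node_sq .c (by decide)
  | 3, _ => exact node_sq .d (by decide)
  | 4, _ => exact node_sq .e (by decide)
  | 5, _ => exact node_sq .f (by decide)
  | k + 6, h => exact absurd h (by omega)

theorem gen_inv : ∀ g < 8, gen (iv g) * gen g = 1 := by
  intro g hg
  match g, hg with
  | 0, _ => exact gen_sq (k := 0) (by decide)
  | 1, _ => exact gen_sq (k := 1) (by decide)
  | 2, _ => exact gen_sq (k := 2) (by decide)
  | 3, _ => exact gen_sq (k := 3) (by decide)
  | 4, _ => exact gen_sq (k := 4) (by decide)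
  | 5, _ => exact gen_sq (k := 5) (by decide)
  | 6, _ => exact inv_mul_cancel _
  | 7, _ => exact mul_inv_cancel _
  | k + 8, h => exact absurd h (by omega)

theorem iv_lt : ∀ g < 8, iv g < 8 := by decide +kernel

theorem ev_wordOf (r : FreeGroup Cfsg.Spor.ON.Gen) :
    PresentedGroup.mk (Cfsg.Spor.coxRelators Cfsg.Spor.ON.edges ∪ {r | r ∈ Cfsg.Spor.ON.extra}) r =
      ev gen (wordOf ix iv r) := by
  rw [← lift_eq_ev (fun a => (PresentedGroup.of a : Cfsg.Spor.ON)) gen ix iv gen_ix (fun a => ?_) r]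
  · refine DFunLike.congr_fun (?_ : _ = FreeGroup.lift _) r
    ext a
    simp [PresentedGroup.of]
  · refine eq_inv_of_mul_eq_one_left ?_
    have := gen_inv (ix a) (by cases a <;> decide)
    rwa [gen_ix] at this

/-- the relator words of the table -/
def relWords : List (List ℕ) := Tab.data.words.take Tab.data.nrel

theorem relWords_mem : ∀ w ∈ relWords,
    w ∈ (relList Cfsg.Spor.ON.edges Cfsg.Spor.ON.extra).map (wordOf ix iv) := by decide +kernel

theorem rel_eq_one {w : List ℕ} (hw : w ∈ relWords) : ev gen w = 1 := by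
  obtain ⟨r, hr, rfl⟩ := List.mem_map.mp (relWords_mem w hw)
  rw [← ev_wordOf]
  exact PresentedGroup.one_of_mem (mem_relList.mp hr)

/-- the subgroup generated by a, …, f -/
noncomputable abbrev H : Subgroup Cfsg.Spor.ON := Subgroup.closure (gen '' {g | g < 6})

theorem H_eq : (Subgroup.closure ({Cfsg.Spor.ON.a, Cfsg.Spor.ON.b, Cfsg.Spor.ON.c, Cfsg.Spor.ON.d,
      Cfsg.Spor.ON.e, Cfsg.Spor.ON.f} : Set (FreeGroup Cfsg.Spor.ON.Gen))).map
    (PresentedGroup.mk (Cfsg.Spor.coxRelators Cfsg.Spor.ON.edges ∪ {r | r ∈ Cfsg.Spor.ON.extra})) = H := by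
  rw [MonoidHom.map_closure]
  congr 1
  have hset : {g : ℕ | g < 6} = {0, 1, 2, 3, 4, 5} := by
    ext g; simp only [Set.mem_ofPred_eq, Set.mem_insert_iff, Set.mem_singleton_iff]; omega
  rw [hset]
  simp only [Set.image_insert_eq, Set.image_singleton]
  rfl

theorem single_mem {w : List ℕ} (h : w ∈ [[0], [1], [2], [3], [4], [5]]) : ev gen w ∈ H := by
  simp only [List.mem_cons, List.not_mem_nil, or_false] at h
  rcases h with rfl | rfl | rfl | rfl | rfl | rfl <;>
    · simp only [ev, one_mul]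
      exact Subgroup.subset_closure ⟨_, by decide, rfl⟩

theorem mem_of_fix {x : Cfsg.Spor.ON} (h : x • ((1 : Cfsg.Spor.ON) : Cfsg.Spor.ON ⧸ H) =
    ((1 : Cfsg.Spor.ON) : Cfsg.Spor.ON ⧸ H)) : x ∈ H := by
  rw [show x • ((1 : Cfsg.Spor.ON) : Cfsg.Spor.ON ⧸ H) = ((x * 1 : Cfsg.Spor.ON) : Cfsg.Spor.ON ⧸ H)
    from rfl, QuotientGroup.eq, mul_one, mul_one] at h
  exact inv_mem_iff.mp h

theorem fix_of_mem {x : Cfsg.Spor.ON} (h : x ∈ H) :
    x • ((1 : Cfsg.Spor.ON) : Cfsg.Spor.ON ⧸ H) = ((1 : Cfsg.Spor.ON) : Cfsg.Spor.ON ⧸ H) := by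
  rw [show x • ((1 : Cfsg.Spor.ON) : Cfsg.Spor.ON ⧸ H) = ((x * 1 : Cfsg.Spor.ON) : Cfsg.Spor.ON ⧸ H)
    from rfl, QuotientGroup.eq, mul_one, mul_one]
  exact inv_mem h

theorem deriv_hyp {P : Deriv} (hng : P.ng = 8) (hiv : P.iv = iv)
    (hr : ∀ w ∈ P.words.take P.nrel, w ∈ relWords)
    (hs : ∀ w ∈ P.words.drop P.nrel, ev gen w ∈ H) :
    P.Hyp gen (((1 : Cfsg.Spor.ON)) : Cfsg.Spor.ON ⧸ H) where
  inv g hg := by rw [hiv]; exact gen_inv g (hng ▸ hg)
  ivlt g hg := by rw [hiv, hng]; exact iv_lt g (hng ▸ hg)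
  rels w hw := rel_eq_one (hr w hw)
  subs w hw := by
    rw [← List.take_append_drop P.nrel P.words, List.mem_append] at hw
    rcases hw with hw | hw
    · rw [rel_eq_one (hr w hw), one_smul]
    · exact fix_of_mem (hs w hw)

theorem loop1_mem : ev gen Loop1.word ∈ H :=
  mem_of_fix (Loop1.fix (deriv_hyp rfl rfl (by decide +kernel) fun w hw => single_mem (by
    revert hw; revert w; decide +kernel)))

theorem loop2_mem : ev gen Loop2.word ∈ H := by
  refine mem_of_fix (Loop2.fix (deriv_hyp rfl rfl (by decide +kernel) fun w hw => ?_))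
  have hsub : ∀ w ∈ Loop2.data.words.drop Loop2.data.nrel,
      w ∈ [[0], [1], [2], [3], [4], [5]] ∨ w = Loop1.word := by decide +kernel
  rcases hsub w hw with h | rfl
  · exact single_mem h
  · exact loop1_mem

theorem subWords : ∀ w ∈ Tab.data.words.drop Tab.data.nrel,
    w ∈ [[0], [1], [2], [3], [4], [5]] ∨ w = Loop1.word ∨ w = Loop2.word := by decide +kernel

theorem relCover : ∀ r ∈ relList Cfsg.Spor.ON.edges Cfsg.Spor.ON.extra,
    wordOf ix iv r ∈ relWords ∨ ((wordOf ix iv r).map iv).reverse ∈ relWords := by decide +kernel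

theorem model : Model Tab.data gen H where
  tables := Tab.tables
  inv := gen_inv
  generates := by
    refine eq_top_iff.mpr fun x _ => PresentedGroup.generated_by _ _ (fun a => ?_) x
    exact Subgroup.subset_closure ⟨ix a, by cases a <;> decide, gen_ix a⟩
  rels _ hw := rel_eq_one hw
  subgroup := by
    refine le_antisymm ((Subgroup.closure_le _).mpr ?_) ((Subgroup.closure_le _).mpr ?_)
    · rintro _ ⟨g, hg, rfl⟩
      refine Subgroup.subset_closure ⟨[g], ?_, by simp [ev]⟩
      have hh : ∀ g < 6, [g] ∈ Tab.data.words.drop Tab.data.nrel := by decide +kernel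
      exact hh g hg
    · rintro _ ⟨w, hw, rfl⟩
      rcases subWords w hw with h | rfl | rfl
      · exact single_mem h
      · exact loop1_mem
      · exact loop2_mem
  action := by
    have hl := Tab.tables.mem_letters
    have hp : ∀ a, perm Tab.data (iv (ix a)) = (perm Tab.data (ix a))⁻¹ := fun a =>
      eq_inv_of_mul_eq_one_left (perm_inv Tab.tables (g := ix a) (by cases a <;> decide))
    have hrel : ∀ r ∈ Cfsg.Spor.coxRelators Cfsg.Spor.ON.edges ∪ {r | r ∈ Cfsg.Spor.ON.extra},
        FreeGroup.lift (fun a => perm Tab.data (ix a)) r = 1 := by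
      intro r hr
      rw [lift_eq_ev _ (perm Tab.data) ix iv (fun _ => rfl) hp]
      have key : ∀ w ∈ relWords, ev (perm Tab.data) w = 1 := fun w hw =>
        ev_perm_eq_one Tab.tables (hl w (List.mem_of_mem_take hw)) (Tab.relFix w hw)
      rcases relCover r (mem_relList.mpr hr) with h | h
      · exact key _ h
      · have h1 := key _ h
        rw [ev_reverse (perm Tab.data) (m := Tab.data.ng) (iv := iv)
          (fun g hg => perm_inv Tab.tables hg) _ (fun g hg => ?_), inv_eq_one] at h1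
        · exact h1
        · have h2 := hl _ (List.mem_of_mem_take h) (iv g)
            (List.mem_reverse.mpr (List.mem_map.mpr ⟨g, hg, rfl⟩))
          have h3 : ∀ g, iv g < 8 → g < 8 := by
            intro g hg
            by_contra hcon
            have : iv g = g := by
              unfold iv
              split <;> omega
            omega
          exact h3 g h2
    refine ⟨PresentedGroup.toGroup hrel, fun g hg => ?_⟩
    have hof : ∀ a, PresentedGroup.toGroup hrel (gen (ix a)) = perm Tab.data (ix a) := fun a => by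
      rw [gen_ix, PresentedGroup.toGroup.of]
    have hg8 : g < 8 := hg
    match g, hg8 with
    | 0, _ => exact hof .a
    | 1, _ => exact hof .b
    | 2, _ => exact hof .c
    | 3, _ => exact hof .d
    | 4, _ => exact hof .e
    | 5, _ => exact hof .f
    | 6, _ => exact hof .g
    | 7, _ =>
      show PresentedGroup.toGroup hrel (gen 6)⁻¹ = perm Tab.data (iv (ix .g))
      rw [map_inv, hp]
      exact congrArg (·⁻¹) (hof .g)
    | k + 8, h => exact absurd h (by omega)

theorem index_H : H.index = 122760 := model.index_eq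

end ON
end H93
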